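-- Stabilizer chain and simplicity data for J1C; generated, checked by the kernel.
import Cfsg.Agent.Lib.Compute.TC.J1A.Final
import Cfsg.Agent.Lib.Compute.TCChain2
set_option autoImplicit false
set_option maxRecDepth 1000000

open Cfsg.Agent.Lib.Compute.ToddCoxeterCore Cfsg.Agent.Lib.Compute.ToddCoxeterPresented Cfsg.Agent.Lib.Compute.TCFast Cfsg.Agent.Lib.Compute.TCChain

namespace Cfsg.Agent.Lib.Compute.TC.J1C

/-- the first level of the chain -/
def next0 : List PE := [.mul (.lt (nat_lit 2)) (.mul (.lt (nat_lit 0)) (.mul (.lt (nat_lit 1)) (.mul (.lt (nat_lit 0)) (.mul (.lt (nat_lit 2)) (.mul (.lt (nat_lit 0)) (.mul (.lt (nat_lit 1)) (.mul (.lt (nat_lit 0)) (.mul (.lt (nat_lit 1)) (.mul (.lt (nat_lit 0)) (.mul (.lt (nat_lit 2)) (.mul (.lt (nat_lit 0)) (.mul (.lt (nat_lit 2)) (.mul (.lt (nat_lit 2)) (.mul (.lt (nat_lit 0)) (.mul (.lt (nat_lit 2)) (.mul (.lt (nat_lit 0)) (.mul (.lt (nat_lit 1)) (.lt (nat_lit 0))))))))))))))))))), .mul (.lt (nat_lit 0)) (.mul (.lt (nat_lit 2)) (.mul (.lt (nat_lit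 0)) (.mul (.lt (nat_lit 2)) (.mul (.lt (nat_lit 0)) (.mul (.lt (nat_lit 2)) (.mul (.lt (nat_lit 2)) (.mul (.lt (nat_lit 0)) (.mul (.lt (nat_lit 1)) (.mul (.lt (nat_lit 0)) (.mul (.lt (nat_lit 2)) (.mul (.lt (nat_lit 0)) (.mul (.lt (nat_lit 1)) (.mul (.lt (nat_lit 1)) (.mul (.lt (nat_lit 0)) (.mul (.lt (nat_lit 1)) (.mul (.lt (nat_lit 0)) (.mul (.lt (nat_lit 1)) (.lt (nat_lit 0)))))))))))))))))))]

/-- the degree -/
def degree : ℕ := 266

/-- a moved point -/
def x0 : ℕ := 0

theorem fix0 : fixAll (ev0 Cfsg.Agent.Lib.Compute.TC.J1A.cfg) 0 next0 = true := by decide +kernel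

theorem N_eq : Cfsg.Agent.Lib.Compute.TC.J1A.cfg.N = nat_lit 266 := by decide +kernel

/-- evaluation at the first level -/
noncomputable def evL0 : ℕ → Bool → ℕ → ℕ := evN (ev0 Cfsg.Agent.Lib.Compute.TC.J1A.cfg) next0

/-- the orbit table of level 0 -/
noncomputable def tb0 : TT := .node (nat_lit 64) (.leaf (nat_lit 0x80000005d0000790800000078000078090000003e000071080000002800006f070100007100006d080000007a00006a06010000070000680800000036000067040100005e000066070000000a000063040000005e000061070100005b00005f080100007a00005e080000002f00005d060100001200005a0a010000690000590701000083000056070000001100005507010000490000540900000082000053090000006c0000510900000048000050070000007b00004f070100004b00004e090000006000004d050100004300004b010000002400004a0000000000000045080000007600004408010000190000430801000064000041060100001700003f010100002400003e060100000d00003c050100000000003b050000001400003a050000000e0000390600000016000034070000004b0000330300000063000031050000000000002d050100000100002c070100000400002a0401000008000027070100007b000026050000004300002406010000030000230301000002000020060000000700001c0401000018000019050000000100001709010000090000140800000073000013060000001700001208000000150000110300000042000010050000003500000f070000001e00000e070000002000000d060000000300000c050000005900000a020000001f00000904000000080000080400000010000001))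 (.node (nat_lit 128) (.leaf (nat_lit 0x8000000570001020600000026000100090000006f0000fe090100005a0000fd06000000610000fc07000000750000fa08000000060000f807000000040000f508010000360000f307000000390000f2060100001c0000f0060100005f0000ef07000000830000ed070000007e0000e606000000520000e403010000630000e308000000530000e209010000790000e108010000060000e008000000580000df09000000230000db08000000130000d9090000005a0000d5090000000b0000d309000000210000d0090000006d0000ce090100003c0000ca070000005c0000c802000000250000c6070000000f0000c405010000590000c208000000290000be05000000370000bd03000000020000bc07000000710000b8060100001b0000b7060000000d0000b608000000640000b504000000180000b4070100000a0000b2070000001a0000b10a0000007c0000aa090100007f0000a7090100003e0000a6070000005b0000a405010000350000a308010000290000a109000000440000a00a0000004700009a0a00000041000098080100002e0000970801000005000096060000001d000091090100003a00008e060000001c00008d080100007300008c0900000046000088080000003b000087070100001a00008608010000780000850400000070000082020100002500007e090100000b00007d090000003f00007a))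 (.leaf (nat_lit 0x60000001b000109080000006200010608000000340001040800000045000103)))
/-- level 0 -/
noncomputable def lv0 : Lvl where
  b := nat_lit 69
  n := nat_lit 132
  t := fun k => TT.fld tb0 (nat_lit 64) (nat_lit 63) (nat_lit 18446744073709551615) k
  next := [.mul (.inv (.mul (.lt (nat_lit 1)) (.mul (.lt (nat_lit 0)) (.mul (.lt (nat_lit 0)) (.mul (.lt (nat_lit 0)) (.mul (.lt (nat_lit 1)) (.mul (.lt (nat_lit 0)) (.mul (.lt (nat_lit 0)) (.mul (.lt (nat_lit 1)) (.lt (nat_lit 0))))))))))) (.mul (.lt (nat_lit 0)) (.mul (.lt (nat_lit 0)) (.mul (.lt (nat_lit 1)) (.mul (.lt (nat_lit 0)) (.mul (.lt (nat_lit 0)) (.mul (.lt (nat_lit 0)) (.mul (.lt (nat_lit 0)) (.mul (.lt (nat_lit 0)) (.mul (.lt (nat_lit 0)) (.lt (nat_lit 0))))))))))), .mul (.inv (.mul (.lt (nat_lit 1)) (.mul (.lt (nat_lit 0)) (.mul (.lt (nat_lit 1)) (.mul (.lt (nat_lit 0)) (.mul (.lt (nat_lit 0)) (.mul (.lt (nat_lit 1)) (.lt (nat_lit 0))))))))) (.mul (.lt (nat_lit 0)) (.mul (.lt (nat_lit 0)) (.mul (.lt (nat_lit 0)) (.mul (.lt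 (nat_lit 1)) (.mul (.lt (nat_lit 0)) (.mul (.lt (nat_lit 0)) (.mul (.lt (nat_lit 0)) (.mul (.lt (nat_lit 1)) (.mul (.lt (nat_lit 0)) (.lt (nat_lit 1))))))))))), .mul (.inv (.mul (.lt (nat_lit 1)) (.mul (.lt (nat_lit 0)) (.mul (.lt (nat_lit 1)) (.mul (.lt (nat_lit 0)) (.mul (.lt (nat_lit 0)) (.mul (.lt (nat_lit 0)) (.lt (nat_lit 0))))))))) (.mul (.lt (nat_lit 0)) (.mul (.lt (nat_lit 0)) (.mul (.lt (nat_lit 0)) (.mul (.lt (nat_lit 1)) (.mul (.lt (nat_lit 0)) (.mul (.lt (nat_lit 1)) (.mul (.lt (nat_lit 0)) (.lt (nat_lit 1))))))))), .mul (.inv (.mul (.lt (nat_lit 0)) (.mul (.lt (nat_lit 0)) (.mul (.lt (nat_lit 0)) (.mul (.lt (nat_lit 0)) (.mul (.lt (nat_lit 0)) (.mul (.lt (nat_lit 0)) (.mul (.lt (nat_lit 1)) (.lt (nat_lit 0)))))))))) (.mul (.lt (nat_lit 1)) (.mul (.lt (nat_lit 0)) (.mul (.lt (nat_lit 1)) (.mul (.lt (nat_lit 0)) (.mul (.lt (nat_lit 1)) (.mul (.lt (nat_lit 0)) (.mul (.lt (nat_lit 0)) (.mul (.lt (nat_lit 1)) (.lt (nat_lit 0))))))))))]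

/-- evaluation at the next level -/
noncomputable def evL1 : ℕ → Bool → ℕ → ℕ := evN evL0 lv0.next

/-- the orbit table of level 1 -/
noncomputable def tb1 : TT := .leaf (nat_lit 0x1020000000000d701030000000000730100000000000070010100000000006c000000000000002e)
/-- level 1 -/
noncomputable def lv1 : Lvl where
  b := nat_lit 46
  n := nat_lit 5
  t := fun k => TT.fld tb1 (nat_lit 64) (nat_lit 63) (nat_lit 18446744073709551615) k
  next := []

/-- the chain -/
noncomputable def ls : List Lvl := [lv0, lv1]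

theorem prodEq : Cfsg.Agent.Lib.Compute.TC.J1A.cfg.N * (ls.map (·.n)).prod = 175560 := by decide +kernel

def p31 : PE := .mul (PE.lt (nat_lit 1)) (PE.lt (nat_lit 1))
def p32 : PE := .mul (PE.lt (nat_lit 1)) p31
def p33 : PE := .mul p31 p31
def p34 : PE := .mul (PE.lt (nat_lit 1)) p33
def p35 : PE := .mul p32 p32
def p2 : PE := .mul (PE.lt (nat_lit 0)) (PE.lt (nat_lit 2))
def p4 : PE := .mul (PE.lt (nat_lit 1)) p2
def p5 : PE := .mul (PE.lt (nat_lit 0)) p4
def p6 : PE := .mul (PE.lt (nat_lit 1)) p5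
def p7 : PE := .mul (PE.lt (nat_lit 2)) p6
def p8 : PE := .mul (PE.lt (nat_lit 1)) p7
def p9 : PE := .mul (PE.lt (nat_lit 2)) p8
def p10 : PE := .mul (PE.lt (nat_lit 0)) (PE.lt (nat_lit 1))
def p11 : PE := .mul (PE.lt (nat_lit 2)) p10
def p12 : PE := .mul (PE.lt (nat_lit 0)) p11
def p13 : PE := .mul (PE.lt (nat_lit 1)) p12
def p14 : PE := .mul (PE.lt (nat_lit 0)) p13
def p15 : PE := .mul (PE.lt (nat_lit 2)) p14
def p16 : PE := .inv p9
def p17 : PE := .mul p15 p16
def p18 : PE := .inv p15
def p19 : PE := .mul p17 p18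
def p20 : PE := .mul p9 p19
def p21 : PE := .mul p20 p20
def p22 : PE := .mul p21 p21
def p23 : PE := .mul p20 p22
def p25 : PE := .mul PE.one p23
def p26 : PE := .inv PE.one
def p27 : PE := .mul p25 p26
def p28 : PE := .mul p27 (PE.lt (nat_lit 0))
def p29 : PE := .mul p28 p28
def p30 : PE := .mul p29 PE.one

/-- the element of prime order -/
noncomputable def rr : PE := p9

def d1 : Dv := .inv Dv.base
def d2 : Dv := .conj p15 d1
def d3 : Dv := .mul Dv.base d2
def d4 : Dv := .mul d3 d3
def d5 : Dv := .mul d4 d4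
def d6 : Dv := .mul d3 d5
def d7 : Dv := .conj p30 d6
def d8 : Dv := .conj (PE.lt (nat_lit 1)) d7
def d9 : Dv := .mul d7 d8
def d10 : Dv := .conj p31 d7
def d11 : Dv := .mul d9 d10
def d12 : Dv := .conj p32 d7
def d13 : Dv := .mul d11 d12
def d14 : Dv := .conj p33 d7
def d15 : Dv := .mul d13 d14
def d16 : Dv := .conj p34 d7
def d17 : Dv := .mul d15 d16
def d18 : Dv := .conj p35 d7
def d19 : Dv := .mul d17 d18
def d20 : Dv := .inv d19

/-- the letters as elements of the normal closure -/
noncomputable def ds : List Dv := [d7, d20, d19]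

theorem rPow : eqOn (ev0 Cfsg.Agent.Lib.Compute.TC.J1A.cfg) (rr.pw (19 ^ 1)) .one (0 :: ls.map (·.b)) = true := by decide +kernel

theorem rNe : PE.ev (ev0 Cfsg.Agent.Lib.Compute.TC.J1A.cfg) rr true x0 ≠ x0 := by decide +kernel

theorem dsOK : ∀ x, x < Cfsg.Agent.Lib.Compute.TC.J1A.cfg.L → eqOn (ev0 Cfsg.Agent.Lib.Compute.TC.J1A.cfg) ((ds.getD x .base).toPE rr) (.lt x) (0 :: ls.map (·.b)) = true := by decide +kernel

end Cfsg.Agent.Lib.Compute.TC.J1C
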